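/-
Hypercohomology of bounded below complexes of acyclic objects.
-/
import Groth.Agent.GrothSS.Main
import Groth.Agent.DerExt.Coyoneda
import Groth.Agent.HDU.Basic
import Groth.Agent.HDU.LimitComplex

set_option autoImplicit false
set_option linter.style.haveILetI false
set_option backward.isDefEq.respectTransparency false
set_option backward.isDefEq.respectTransparency.types false
universe u v

open CategoryTheory CategoryTheory.Limits Opposite DerivedCategory

noncomputable section

namespace Groth.Agent.DRAffine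

variable {A : Type v} [Category.{u} A] [Abelian A] [EnoughInjectives A] [HasExt.{u} A]
  [HasDerivedCategory.{u} A]

theorem isZero_rightDerived (P Y : A) (q : ℕ) [Subsingleton (Abelian.Ext P Y q)] :
    IsZero (((preadditiveCoyoneda.obj (op P)).rightDerived q).obj Y) := by
  refine IsZero.of_iso ?_ ((DerExt.rightDerivedIso P q).app Y)
  haveI : Subsingleton ((Abelian.extFunctorObj P q).obj Y) := ‹Subsingleton (Abelian.Ext P Y q)›
  exact AddCommGrpCat.isZero_of_subsingleton _

/-- **acyclic terms compute hypercohomology** -/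
theorem nonempty_hom_addEquiv (P : A) (K : CochainComplex A ℤ) (a : ℤ) [K.IsStrictlyGE a]
    (h : ∀ (m : ℤ) (q : ℕ), 0 < q → Subsingleton (Abelian.Ext P (K.X m) q)) (n : ℤ) :
    Nonempty (((Q : _ ⥤ DerivedCategory A).obj ((CochainComplex.singleFunctor A 0).obj P) ⟶
        (shiftFunctor (DerivedCategory A) n).obj (Q.obj K)) ≃+
      ↑((((preadditiveCoyoneda.obj (op P)).mapHomologicalComplex (ComplexShape.up ℤ)).obj K).homology n)) := by
  obtain ⟨L, j, hj, hL, hge⟩ :=
    CochainComplex.Plus.modelCategoryQuillen.exists_quasiIso_injective K a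
  haveI := hge
  haveI := hj
  haveI : ∀ n, Injective (L.X n) := hL
  haveI : L.IsKInjective := CochainComplex.isKInjective_of_injective L a
  let S := preadditiveCoyoneda.obj (op P)
  haveI := GrothSS.quasiIso_map_of_acyclic S j a
    (fun m q hq => haveI := h m q hq; isZero_rightDerived P (K.X m) q) hL
  let M : CochainComplex AddCommGrpCat.{u} ℤ := (S.mapHomologicalComplex (ComplexShape.up ℤ)).obj L
  let e₁ := (isoOfQuasiIsoAt ((S.mapHomologicalComplex (ComplexShape.up ℤ)).map j) n).addCommGroupIsoToAddEquiv
  let T := (Q : _ ⥤ DerivedCategory A).obj ((CochainComplex.singleFunctor A 0).obj P) ⟶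
    (shiftFunctor (DerivedCategory A) n).obj (Q.obj L)
  let e₂ : ((Q : _ ⥤ DerivedCategory A).obj ((CochainComplex.singleFunctor A 0).obj P) ⟶
        (shiftFunctor (DerivedCategory A) n).obj (Q.obj K)) ≃+ T :=
    (preadditiveCoyoneda.obj (op _)).mapIso ((shiftFunctor (DerivedCategory A) n).mapIso (asIso (Q.map j)))
      |>.addCommGroupIsoToAddEquiv
  let cyc : M.cycles n → (P ⟶ L.X n) := fun z => M.iCycles n z
  have hcyc : ∀ z, cyc z ≫ L.d n (n + 1) = 0 := fun z => HDU.d_iCycles_ab M n (n + 1) z
  let f : M.cycles n →+ T := AddMonoidHom.mk' (fun z => HDU.cl n (cyc z) (hcyc z)) fun z z' => by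
    have hadd : cyc (z + z') = cyc z + cyc z' := map_add (M.iCycles n).hom z z'
    exact (HDU.cl_congr n _ (by rw [← hadd]; exact hcyc _) hadd).trans (HDU.cl_add n _ _ (hcyc z) (hcyc z') _)
  have hfs : Function.Surjective f := fun x => by
    obtain ⟨g, hg, rfl⟩ := HDU.cl_surjective n x
    obtain ⟨z, hz⟩ := HDU.exists_cycle_ab M n g hg
    exact ⟨z, HDU.cl_congr n _ _ hz⟩
  let π : M.cycles n →+ M.homology n := (M.homologyπ n).hom
  have hker : π.ker = f.ker := by
    ext z
    rw [AddMonoidHom.mem_ker, AddMonoidHom.mem_ker]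
    refine (HDU.homologyπ_eq_zero_iff M n z).trans ?_
    refine Iff.trans ?_ (HDU.cl_eq_zero_iff n (cyc z) (hcyc z)).symm
    rfl
  have hπ : Function.Surjective π := HDU.homologyπ_surjective_ab M n
  exact ⟨e₂.trans (((QuotientAddGroup.quotientKerEquivOfSurjective f hfs).symm.trans
    (QuotientAddGroup.quotientAddEquivOfEq hker.symm)).trans
      ((QuotientAddGroup.quotientKerEquivOfSurjective π hπ).trans e₁.symm))⟩

end Groth.Agent.DRAffine
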