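/-
De Rham cohomology of affine schemes is the cohomology of the algebraic de Rham complex.
-/
import Groth.Agent.DRAffine.Hyper
import Groth.Agent.DRKaehler.Basic
import Groth.Agent.PnHodge.ExtCoh
import Groth.Agent.HdRVanish.Main
import Groth.Agent.ExtShX.AffineTilde
import Groth.Prelude.Def_DeRham
import Groth.Prelude.Def_DeRham2

set_option autoImplicit false
set_option linter.style.haveILetI false
set_option backward.isDefEq.respectTransparency false
set_option backward.isDefEq.respectTransparency.types false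
set_option maxHeartbeats 1000000
universe u

open CategoryTheory CategoryTheory.Limits AlgebraicGeometry TopologicalSpace Opposite exteriorPower

noncomputable section

namespace Groth.Agent.DRAffine

/-- Forms along isomorphisms of rings. -/
theorem formMap_bijective {R S A B : Type u} [CommRing R] [CommRing S] [CommRing A] [CommRing B]
    [Algebra R A] [Algebra S B] [Algebra R S] [Algebra A B] [Algebra R B] [IsScalarTower R A B] [IsScalarTower R S B]
    (hRS : Function.Bijective (algebraMap R S)) (hAB : Function.Bijective (algebraMap A B)) (p : ℕ) :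
    Function.Bijective (DRKaehler.formMap R A S B p) := by
  let eR := RingEquiv.ofBijective (algebraMap R S) hRS
  let eA := RingEquiv.ofBijective (algebraMap A B) hAB
  letI : Algebra S R := eR.symm.toRingHom.toAlgebra
  letI : Algebra B A := eA.symm.toRingHom.toAlgebra
  letI : Algebra S A := ((algebraMap R A).comp eR.symm.toRingHom).toAlgebra
  haveI : IsScalarTower S R A := IsScalarTower.of_algebraMap_eq' rfl
  haveI : IsScalarTower S B A := IsScalarTower.of_algebraMap_eq fun s => by
    show algebraMap R A (eR.symm s) = eA.symm (algebraMap S B s)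
    rw [eq_comm, RingEquiv.symm_apply_eq]
    show _ = algebraMap A B (algebraMap R A (eR.symm s))
    rw [← IsScalarTower.algebraMap_apply, IsScalarTower.algebraMap_apply R S B]
    exact congrArg _ (eR.apply_symm_apply s).symm
  refine ⟨fun x y hxy => ?_, fun y => ⟨DRKaehler.formMap S B R A p y, ?_⟩⟩
  · have key : ∀ z, DRKaehler.formMap S B R A p (DRKaehler.formMap R A S B p z) = z := fun z =>
      DRKaehler.addHom_ext (f := ((DRKaehler.formMap S B R A p).toAddMonoidHom.comp
        (DRKaehler.formMap R A S B p).toAddMonoidHom)) (g := AddMonoidHom.id _) (fun b₀ b => by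
        show DRKaehler.formMap S B R A p (DRKaehler.formMap R A S B p _) = _
        rw [DRKaehler.formMap_gen, DRKaehler.formMap_gen]
        simp only [RingHom.algebraMap_toAlgebra]
        have hsym : ∀ a, eA.symm.toRingHom (algebraMap A B a) = a := eA.symm_apply_apply
        simp only [hsym]
        rfl) z
    rw [← key x, hxy, key]
  · exact DRKaehler.addHom_ext (f := ((DRKaehler.formMap R A S B p).toAddMonoidHom.comp
        (DRKaehler.formMap S B R A p).toAddMonoidHom)) (g := AddMonoidHom.id _) (fun b₀ b => by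
        show DRKaehler.formMap R A S B p (DRKaehler.formMap S B R A p _) = _
        rw [DRKaehler.formMap_gen, DRKaehler.formMap_gen]
        simp only [RingHom.algebraMap_toAlgebra]
        have hsym : ∀ a, algebraMap A B (eA.symm.toRingHom a) = a := eA.apply_symm_apply
        simp only [hsym]
        rfl) y

variable {R A : Type u} [CommRing R] [CommRing A] [Algebra R A]
  (D : DeRhamSh.OmegaCx (Spec.map (CommRingCat.ofHom (algebraMap R A))))

/-- exterior powers of an isomorphism -/
def extPowEquiv {B M N : Type u} [CommRing B] [AddCommGroup M] [Module B M] [AddCommGroup N] [Module B N]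
    (p : ℕ) (L : M ≃ₗ[B] N) : ↥(⋀[B]^p M) ≃ₗ[B] ↥(⋀[B]^p N) :=
  LinearEquiv.ofLinear (exteriorPower.map p L.toLinearMap) (exteriorPower.map p L.symm.toLinearMap)
    (by rw [← exteriorPower.map_comp, LinearEquiv.comp_symm, exteriorPower.map_id])
    (by rw [← exteriorPower.map_comp, LinearEquiv.symm_comp, exteriorPower.map_id])

/-- the whole space as an affine open -/
def topA (R : Type u) [CommRing R] : (Spec (CommRingCat.of R)).affineOpens := ⟨⊤, isAffineOpen_top _⟩

theorem exists_transfer :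
    ∃ Φ : ∀ p : ℕ, ↥(⋀[A]^p (Ω[A⁄R])) ≃+ Γ(D.term p, (topA A).1),
      ∀ (p : ℕ) (b₀ : A) (b : Fin p → A),
        Φ p (DeRham.gen (KaehlerDifferential.D R A) p b₀ b) =
          (D.loc p (topA A)).symm (((Scheme.ΓSpecIso (CommRingCat.of A)).inv b₀) •
            ιMulti _ p (fun i => (OmegaSh.dOmega (Spec.map (CommRingCat.ofHom (algebraMap R A)))).app (topA A).1
              ((Scheme.ΓSpecIso (CommRingCat.of A)).inv (b i)))) := by
  let f := Spec.map (CommRingCat.ofHom (algebraMap R A))
  let U := topA A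
  let V := topA R
  let iR := (Scheme.ΓSpecIso (CommRingCat.of R)).inv.hom
  let iA := (Scheme.ΓSpecIso (CommRingCat.of A)).inv.hom
  have e : U.1 ≤ f ⁻¹ᵁ V.1 := fun _ _ => trivial
  let g := (f.appLE V.1 U.1 e).hom
  letI algΓ : Algebra Γ(Spec (CommRingCat.of R), V.1) Γ(Spec (CommRingCat.of A), U.1) := g.toAlgebra
  letI : Algebra R Γ(Spec (CommRingCat.of R), V.1) := iR.toAlgebra
  letI : Algebra A Γ(Spec (CommRingCat.of A), U.1) := iA.toAlgebra
  letI : Algebra R Γ(Spec (CommRingCat.of A), U.1) := (iA.comp (algebraMap R A)).toAlgebra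
  haveI : IsScalarTower R A Γ(Spec (CommRingCat.of A), U.1) := IsScalarTower.of_algebraMap_eq' rfl
  haveI : IsScalarTower R Γ(Spec (CommRingCat.of R), V.1) Γ(Spec (CommRingCat.of A), U.1) :=
    IsScalarTower.of_algebraMap_eq fun r => by
      show iA (algebraMap R A r) = g (iR r)
      show (CommRingCat.ofHom (algebraMap R A) ≫ (Scheme.ΓSpecIso (CommRingCat.of A)).inv) r =
        ((Scheme.ΓSpecIso (CommRingCat.of R)).inv ≫ f.appLE ⊤ ⊤ e) r
      rw [Scheme.ΓSpecIso_inv_naturality,
        show f.appLE ⊤ ⊤ e = f.appTop from Scheme.Hom.appLE_eq_app (f := f)]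
  have hiR : Function.Bijective iR := ConcreteCategory.bijective_of_isIso (Scheme.ΓSpecIso (CommRingCat.of R)).inv
  have hiA : Function.Bijective iA := ConcreteCategory.bijective_of_isIso (Scheme.ΓSpecIso (CommRingCat.of A)).inv
  obtain ⟨L, hL⟩ := OmegaLib.exists_linearEquiv (OmegaLib.isUniversal_dOmega f) e U.2 V.2
  refine ⟨fun p => (AddEquiv.ofBijective
    (DRKaehler.formMap R A Γ(Spec (CommRingCat.of R), V.1) Γ(Spec (CommRingCat.of A), U.1) p).toAddMonoidHom
      (formMap_bijective hiR hiA p)).trans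
    ((extPowEquiv p L.symm).toAddEquiv.trans (D.loc p U).symm.toAddEquiv), fun p b₀ b => ?_⟩
  show (D.loc p U).symm (exteriorPower.map p L.symm.toLinearMap (DRKaehler.formMap R A
    Γ(Spec (CommRingCat.of R), V.1) Γ(Spec (CommRingCat.of A), U.1) p _)) = _
  rw [DRKaehler.formMap_gen, DeRham.gen, map_smul, exteriorPower.map_apply_ιMulti]
  refine congrArg _ (congrArg _ (congrArg _ (funext fun i => ?_)))
  show L.symm _ = _
  rw [LinearEquiv.symm_apply_eq]
  exact (hL _).symm

/-- the term of the de Rham complex on global sections as maps from the free sheaf -/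
def secX (p : ℕ) : (CohCx.freeSheaf (Opens.grothendieckTopology (Spec (CommRingCat.of A))) (⊤ : (Spec (CommRingCat.of A)).Opens) ⟶ D.K.X p) ≃+
    (D.K.X p).obj.obj (op (topA A).1) :=
  SiteCoh.secEquiv _ _

/-- global sections of a term in the complex and as a module -/
def secT (p : ℕ) : Γ(D.term p, (topA A).1) ≃+ (D.K.X p).obj.obj (op (topA A).1) :=
  (((sheafToPresheaf _ _).mapIso (D.iso p).symm).app (op (topA A).1)).addCommGroupIsoToAddEquiv

theorem isStrictlyGE_KZ : D.KZ.IsStrictlyGE 0 :=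
  (CochainComplex.isStrictlyGE_iff D.KZ 0).2 fun i hi =>
    D.K.isZero_extend_X ComplexShape.embeddingUpNat i fun j hj => by
      have : ((j : ℕ) : ℤ) = i := hj
      omega

theorem acyclic_terms (m : ℤ) (q : ℕ) (hq : 0 < q) :
    Subsingleton (Abelian.Ext (CohCx.freeSheaf (Opens.grothendieckTopology (Spec (CommRingCat.of A))) (⊤ : (Spec (CommRingCat.of A)).Opens)) (D.KZ.X m) q) := by
  let X := Spec (CommRingCat.of A)
  let P := CohCx.freeSheaf (Opens.grothendieckTopology X) (⊤ : X.Opens)
  let e := ComplexShape.embeddingUpNat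
  haveI := isStrictlyGE_KZ D
  have hΩ : Coh.IsQCoh (Omega.sheaf (Spec.map (CommRingCat.ofHom (algebraMap R A)))) :=
    OmegaLib.isQCoh_of_isUniversal (OmegaLib.isUniversal_dOmega _)
  have hqc : ∀ p, Coh.IsQCoh (D.term p) := fun p =>
    QC.isQCoh_iff_isLoc.2 (PnHodge.ExtCoh.isLoc (D.loc p) (D.loc_res p) hΩ)
  rcases lt_or_ge m 0 with hm | hm
  · exact HdRVanish.subsingleton_ext_isZero (X := X.toTopCat) _ (D.KZ.isZero_of_isStrictlyGE 0 m hm) q
  obtain ⟨j, rfl⟩ := Int.eq_ofNat_of_zero_le hm
  obtain ⟨q, rfl⟩ := Nat.exists_eq_succ_of_ne_zero hq.ne'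
  refine HdRVanish.subsingleton_ext_congr (X := X.toTopCat) _
    (D.K.extendXIso e (rfl : e.f j = (j : ℤ)) ≪≫ D.iso j) _ ?_
  exact (FreeJ.subsingleton_H_iff (X := X.toTopCat) (Coh.toAb (D.term j)) (q + 1)).1
    (ExtShX.subsingleton_hh_qcoh (D.term j) (hqc j) q)

theorem nonempty_addEquiv [HasDerivedCategory.{u} (Sheaf (Opens.grothendieckTopology ↥(Spec (CommRingCat.of A))) AddCommGrpCat.{u})]
    (d : ∀ p : ℕ, ↥(⋀[A]^p (Ω[A⁄R])) →ₗ[R] ↥(⋀[A]^(p + 1) (Ω[A⁄R])))
    (hd : DeRham.IsDiff (KaehlerDifferential.D R A) d) (n : ℕ) :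
    Nonempty (DeRhamSh.HdR D (n : ℤ) ≃+ ↑(DeRham.H hd n)) := by
  let X := Spec (CommRingCat.of A)
  let P := CohCx.freeSheaf (Opens.grothendieckTopology X) (⊤ : X.Opens)
  let S := preadditiveCoyoneda.obj (op P)
  let e := ComplexShape.embeddingUpNat
  haveI := isStrictlyGE_KZ D
  have hac := acyclic_terms D
  obtain ⟨ε⟩ := nonempty_hom_addEquiv P D.KZ 0 hac (n : ℤ)
  obtain ⟨Φ, hΦ⟩ := exists_transfer D
  let F := forget₂ (ModuleCat.{u} R) AddCommGrpCat.{u}
  let C₁ : CochainComplex AddCommGrpCat.{u} ℕ := (F.mapHomologicalComplex (ComplexShape.up ℕ)).obj (DeRham.cx hd)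
  let C₂ : CochainComplex AddCommGrpCat.{u} ℕ := (S.mapHomologicalComplex (ComplexShape.up ℕ)).obj D.K
  let θ : ∀ p, (C₁.X p : AddCommGrpCat.{u}) ≅ C₂.X p := fun p =>
    AddEquiv.toAddCommGrpIso (((Φ p).trans (secT D p)).trans (secX D p).symm)
  have hθ : ∀ p, (θ p).hom ≫ C₂.d p (p + 1) = C₁.d p (p + 1) ≫ (θ (p + 1)).hom := by
    intro p
    ext x
    show (secX D p).symm (secT D p (Φ p x)) ≫ D.K.d p (p + 1) =
      (secX D (p + 1)).symm (secT D (p + 1) (Φ (p + 1) (((DeRham.cx hd).d p (p + 1)) x)))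
    rw [show (DeRham.cx hd).d p (p + 1) = ModuleCat.ofHom (d p) from by unfold DeRham.cx; exact CochainComplex.of_d (fun p => ModuleCat.of R ↥(⋀[A]^p (Ω[A⁄R]))) (fun p => ModuleCat.ofHom (d p)) p]
    refine ((secX D (p + 1)).eq_symm_apply).2 ?_
    have key : ((secX D p).symm (secT D p (Φ p x)) ≫ D.K.d p (p + 1)).hom.app (op (topA A).1)
        (SiteCoh.gen (Opens.grothendieckTopology X) (⊤ : X.Opens)) =
        (D.K.d p (p + 1)).hom.app (op (topA A).1) (secT D p (Φ p x)) :=
      congrArg ((D.K.d p (p + 1)).hom.app (op (topA A).1)).hom ((secX D p).apply_symm_apply (secT D p (Φ p x)))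
    refine key.trans ?_
    refine DRKaehler.addHom_ext
      (f := ((D.K.d p (p + 1)).hom.app (op (topA A).1)).hom.comp
        ((secT D p).toAddMonoidHom.comp (Φ p).toAddMonoidHom))
      (g := (secT D (p + 1)).toAddMonoidHom.comp ((Φ (p + 1)).toAddMonoidHom.comp (d p).toAddMonoidHom))
      (fun b₀ b => ?_) x
    show (D.K.d p (p + 1)).hom.app (op (topA A).1) (secT D p (Φ p _)) = secT D (p + 1) (Φ (p + 1) (d p _))
    rw [hd.1, DRKaehler.wedge_D, hΦ, hΦ, map_one, one_smul]
    refine (D.rule p (topA A) _ _).trans ?_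
    refine congrArg (secT D (p + 1)) (congrArg _ (congrArg _ (funext fun i => ?_)))
    refine Fin.cases ?_ (fun j => ?_) i
    · simp only [Fin.cons_zero]
    · simp only [Fin.cons_succ]
  let E₁ : C₁ ≅ C₂ := HomologicalComplex.Hom.isoOfComponents θ (fun i j hij => by
    obtain rfl : i + 1 = j := hij
    exact hθ i)
  obtain ⟨E₂⟩ := GrothSS.nonempty_mapExtend_iso S D.K
  let E : (((S.mapHomologicalComplex (ComplexShape.up ℤ)).obj D.KZ).homology (n : ℤ)) ≅
      F.obj (DeRham.H hd n) :=
    HomologicalComplex.homologyMapIso E₂ _ ≪≫ HomologicalComplex.extendHomologyIso C₂ e (j := n) rfl ≪≫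
      HomologicalComplex.homologyMapIso E₁.symm n ≪≫ ((DeRham.cx hd).sc n).mapHomologyIso F
  exact ⟨ε.trans E.addCommGroupIsoToAddEquiv⟩

end Groth.Agent.DRAffine
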