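/-
De Rham cohomology of affine space in characteristic zero.
-/
import Groth.Agent.DRAffine.Main
import Groth.Agent.H4Easy.Batch31

set_option autoImplicit false
set_option linter.style.haveILetI false
set_option backward.isDefEq.respectTransparency false
set_option backward.isDefEq.respectTransparency.types false
universe u

open CategoryTheory CategoryTheory.Limits AlgebraicGeometry TopologicalSpace Opposite exteriorPower

noncomputable section

namespace Groth.Agent.DRAffine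

section Diff

variable (R A : Type u) [CommRing R] [CommRing A] [Algebra R A]

/-- the de Rham differential on forms of degree `p` -/
def dd (p : ℕ) : ↥(⋀[A]^p (Ω[A⁄R])) →ₗ[R] ↥(⋀[A]^(p + 1) (Ω[A⁄R])) where
  toFun x := ⟨H4Easy.dR R A x, H4Easy.dR_mem R A x.2⟩
  map_add' x y := Subtype.ext (map_add (H4Easy.dR R A) _ _)
  map_smul' r x := Subtype.ext (map_smul (H4Easy.dR R A) r _)

theorem dR_ιMulti_D : ∀ (p : ℕ) (b : Fin p → A),
    H4Easy.dR R A (ExteriorAlgebra.ιMulti A p fun i => KaehlerDifferential.D R A (b i)) = 0 := by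
  intro p
  induction p with
  | zero =>
    intro b
    rw [ExteriorAlgebra.ιMulti_zero_apply, ← map_one (algebraMap A (ExteriorAlgebra A (Ω[A⁄R]))),
      H4Easy.dR_algebraMap, Derivation.map_one_eq_zero, map_zero]
  | succ p ih =>
    intro b
    rw [ExteriorAlgebra.ιMulti_succ_apply, H4Easy.dR_mul, H4Easy.dR_ι_D, zero_mul, zero_add]
    have h := ih (Matrix.vecTail b)
    exact (congrArg _ h).trans (mul_zero _)

theorem isDiff_dd : DeRham.IsDiff (KaehlerDifferential.D R A) (dd R A) := by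
  refine DRKaehler.isDiff_of_isRule _ fun p b₀ b => Subtype.ext ?_
  show H4Easy.dR R A ((b₀ • ExteriorAlgebra.ιMulti A p fun i => KaehlerDifferential.D R A (b i) :
      ExteriorAlgebra A (Ω[A⁄R]))) =
    ExteriorAlgebra.ιMulti A (p + 1) (Fin.cons (KaehlerDifferential.D R A b₀) fun i => KaehlerDifferential.D R A (b i))
  rw [Algebra.smul_def, H4Easy.dR_mul, H4Easy.dR_algebraMap, dR_ιMulti_D, mul_zero, add_zero,
    ExteriorAlgebra.ιMulti_succ_apply, Fin.cons_zero]
  congr 1

end Diff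

variable (k : Type u) [Field k] [CharZero k] (n : ℕ)

theorem deRham_exact : (∀ a : MvPolynomial (Fin n) k,
      H4Easy.dR k (MvPolynomial (Fin n) k) (algebraMap (MvPolynomial (Fin n) k) _ a) = 0 →
        ∃ c : k, a = MvPolynomial.C c) ∧
    ∀ (p : ℕ) (ω : ExteriorAlgebra (MvPolynomial (Fin n) k) (Ω[MvPolynomial (Fin n) k⁄k])),
      ω ∈ ExteriorAlgebra.exteriorPower (MvPolynomial (Fin n) k) (p + 1) (Ω[MvPolynomial (Fin n) k⁄k]) →
        H4Easy.dR k (MvPolynomial (Fin n) k) ω = 0 →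
          ∃ θ ∈ ExteriorAlgebra.exteriorPower (MvPolynomial (Fin n) k) p (Ω[MvPolynomial (Fin n) k⁄k]),
            H4Easy.dR k (MvPolynomial (Fin n) k) θ = ω :=
  H4Easy.deRham_exact k n _ (H4Easy.dR_algebraMap k _) (fun _ _ hx => H4Easy.dR_mem k _ hx)
    (fun p x y hx => by rw [H4Easy.dR_mul, H4Easy.extEps_of_mem hx]) (H4Easy.dR_dR k _)

theorem cx_d (p : ℕ) : (DeRham.cx (isDiff_dd k (MvPolynomial (Fin n) k))).d p (p + 1) =
    ModuleCat.ofHom (dd k (MvPolynomial (Fin n) k) p) := by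
  unfold DeRham.cx
  exact CochainComplex.of_d (fun p => ModuleCat.of k ↥(⋀[MvPolynomial (Fin n) k]^p (Ω[MvPolynomial (Fin n) k⁄k])))
    (fun p => ModuleCat.ofHom (dd k (MvPolynomial (Fin n) k) p)) p

theorem subsingleton_H_succ (p : ℕ) :
    Subsingleton (DeRham.H (isDiff_dd k (MvPolynomial (Fin n) k)) (p + 1)) := by
  let C := DeRham.cx (isDiff_dd k (MvPolynomial (Fin n) k))
  have h : C.ExactAt (p + 1) := by
    rw [C.exactAt_iff' p (p + 1) (p + 2) (by simp) (by simp), ShortComplex.moduleCat_exact_iff]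
    intro x hx
    change (C.d (p + 1) (p + 1 + 1)) x = 0 at hx
    rw [cx_d] at hx
    obtain ⟨θ, hθ, hθx⟩ := (deRham_exact k n).2 p x.1 x.2 (congrArg Subtype.val hx)
    refine ⟨(⟨θ, hθ⟩ : ↥(⋀[MvPolynomial (Fin n) k]^p (Ω[MvPolynomial (Fin n) k⁄k]))), ?_⟩
    change (C.d p (p + 1)) _ = x
    rw [cx_d]
    exact Subtype.ext hθx
  exact ModuleCat.subsingleton_of_isZero h.isZero_homology

theorem nonempty_H_zero : Nonempty (↑(DeRham.H (isDiff_dd k (MvPolynomial (Fin n) k)) 0) ≃+ k) := by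
  let C := DeRham.cx (isDiff_dd k (MvPolynomial (Fin n) k))
  let P := MvPolynomial (Fin n) k
  let c : k →+ LinearMap.ker (dd k P 0) := AddMonoidHom.mk' (fun a => ⟨⟨algebraMap P _ (MvPolynomial.C a), by
      show algebraMap P (ExteriorAlgebra P (Ω[P⁄k])) (MvPolynomial.C a) ∈ ExteriorAlgebra.exteriorPower P 0 (Ω[P⁄k])
      rw [ExteriorAlgebra.exteriorPower, pow_zero]
      exact Submodule.algebraMap_mem _⟩, by
      refine LinearMap.mem_ker.2 (Subtype.ext ?_)
      show H4Easy.dR k P (algebraMap P _ (MvPolynomial.C a)) = 0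
      rw [H4Easy.dR_algebraMap, ← MvPolynomial.algebraMap_eq, Derivation.map_algebraMap, map_zero]⟩)
    fun a b => Subtype.ext (Subtype.ext (by simp))
  have hc : Function.Bijective c := by
    refine ⟨fun a b h => MvPolynomial.C_injective (Fin n) k ?_, fun x => ?_⟩
    · exact (ExteriorAlgebra.algebraMap_leftInverse (Ω[P⁄k])).injective (congrArg (fun z => z.1.1) h)
    · obtain ⟨⟨x, hx⟩, hx0⟩ := x
      have hx' : x ∈ (1 : Submodule P (ExteriorAlgebra P (Ω[P⁄k]))) := by
        have := hx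
        rwa [show (⋀[P]^0 (Ω[P⁄k])) = (1 : Submodule P (ExteriorAlgebra P (Ω[P⁄k]))) from pow_zero _] at this
      obtain ⟨a, rfl⟩ := Submodule.mem_one.1 hx'
      obtain ⟨c₀, rfl⟩ := (deRham_exact k n).1 a (congrArg Subtype.val (LinearMap.mem_ker.1 hx0))
      exact ⟨c₀, rfl⟩
  let e₁ : C.homology 0 ≅ ModuleCat.of k (LinearMap.ker (C.sc 0).g.hom) :=
    C.isoHomologyπ₀.symm ≪≫ (C.sc 0).moduleCatCyclesIso
  have hk : LinearMap.ker (C.sc 0).g.hom = LinearMap.ker (dd k P 0) := by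
    show LinearMap.ker (C.d 0 ((ComplexShape.up ℕ).next 0)).hom = _
    rw [show (ComplexShape.up ℕ).next 0 = 0 + 1 from by simp, cx_d]
    rfl
  exact ⟨e₁.toLinearEquiv.toAddEquiv.trans
    ((LinearEquiv.ofEq _ _ hk).toAddEquiv.trans (AddEquiv.ofBijective c hc).symm)⟩

theorem hdR_affineSpace
    [QuasiSeparated (Spec.map (CommRingCat.ofHom (algebraMap k (MvPolynomial (Fin n) k))))]
    (D : DeRhamSh.OmegaCx (Spec.map (CommRingCat.ofHom (algebraMap k (MvPolynomial (Fin n) k)))))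
    [HasDerivedCategory.{u} (Sheaf (Opens.grothendieckTopology ↥(Spec (CommRingCat.of (MvPolynomial (Fin n) k)))) AddCommGrpCat.{u})] :
    (∀ i : ℤ, i ≠ 0 → Subsingleton (DeRhamSh.HdR D i)) ∧ Nonempty (DeRhamSh.HdR D 0 ≃+ k) := by
  refine ⟨fun i hi => ?_, ?_⟩
  · rcases lt_or_gt_of_ne hi with hneg | hpos
    · haveI := isStrictlyGE_KZ D
      obtain ⟨ε⟩ := nonempty_hom_addEquiv
        (CohCx.freeSheaf (Opens.grothendieckTopology (Spec (CommRingCat.of (MvPolynomial (Fin n) k))))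
          (⊤ : (Spec (CommRingCat.of (MvPolynomial (Fin n) k))).Opens)) D.KZ 0 (acyclic_terms D) i
      refine @Equiv.subsingleton _ _ ε.toEquiv ?_
      refine AddCommGrpCat.subsingleton_of_isZero
        (HomologicalComplex.ExactAt.isZero_homology (ShortComplex.exact_of_isZero_X₂ _ ?_))
      exact Functor.map_isZero (preadditiveCoyoneda.obj (op (CohCx.freeSheaf (Opens.grothendieckTopology (Spec (CommRingCat.of (MvPolynomial (Fin n) k)))) (⊤ : (Spec (CommRingCat.of (MvPolynomial (Fin n) k))).Opens)))) (D.KZ.isZero_of_isStrictlyGE 0 i hneg)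
    · obtain ⟨p, rfl⟩ : ∃ p : ℕ, i = ((p + 1 : ℕ) : ℤ) := ⟨(i - 1).toNat, by omega⟩
      obtain ⟨ε⟩ := nonempty_addEquiv D (dd k _) (isDiff_dd k _) (p + 1)
      haveI := subsingleton_H_succ k n p
      exact ε.toEquiv.subsingleton
  · obtain ⟨ε⟩ := nonempty_addEquiv D (dd k _) (isDiff_dd k _) 0
    obtain ⟨ε'⟩ := nonempty_H_zero k n
    exact ⟨ε.trans ε'⟩

end Groth.Agent.DRAffine
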